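import Mathlib

/-!
# Comparison of `Ext` under a natural transformation to an exact functor, by effacement
-/

set_option autoImplicit false

universe w v u

open CategoryTheory CategoryTheory.Limits CategoryTheory.Abelian

noncomputable section

namespace Groth.Agent.GabAcyc

variable {C : Type u} [Category.{v} C] [Abelian C] [HasExt.{w} C] (Φ : C ⥤ C) [Φ.Additive]
  [PreservesFiniteLimits Φ] [PreservesFiniteColimits Φ] (η : 𝟭 C ⟶ Φ) (K : C)

theorem bijective_ext_unit (P : C → Prop) (hP : ∀ {A M : C} (i : A ⟶ M), Mono i → P A → P M → P (cokernel i))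
    (h0 : ∀ A, P A → Function.Bijective fun x : Ext K A 0 => x.comp (Ext.mk₀ (η.app A)) (add_zero 0))
    (hs : ∀ A, P A → ∀ (q : ℕ) (x : Ext K A (q + 1)),
      ∃ (M : C) (i : A ⟶ M) (_ : Mono i) (_ : P M), x.comp (Ext.mk₀ i) (add_zero _) = 0)
    (ht : ∀ A, P A → ∀ (q : ℕ) (y : Ext K (Φ.obj A) (q + 1)),
      ∃ (M : C) (i : A ⟶ M) (_ : Mono i) (_ : P M), y.comp (Ext.mk₀ (Φ.map i)) (add_zero _) = 0)
    (q : ℕ) : ∀ A, P A → Function.Bijective fun x : Ext K A q => x.comp (Ext.mk₀ (η.app A)) (add_zero q) := by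
  induction q with
  | zero => exact h0
  | succ q ih =>
    intro A hA
    have key : ∀ {M : C} (i : A ⟶ M) (hi : Mono i),
        ∃ (hS : (ShortComplex.mk i (cokernel.π i) (cokernel.condition i)).ShortExact)
          (hS' : ((ShortComplex.mk i (cokernel.π i) (cokernel.condition i)).map Φ).ShortExact),
          hS.extClass.comp (Ext.mk₀ (η.app A)) (add_zero 1) =
            (Ext.mk₀ (η.app (cokernel i))).comp hS'.extClass (zero_add 1) := fun {M} i hi => by
      have hS : (ShortComplex.mk i (cokernel.π i) (cokernel.condition i)).ShortExact :=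
        { exact := ShortComplex.exact_of_g_is_cokernel _ (cokernelIsCokernel i), mono_f := hi }
      have hS' := hS.map_of_exact Φ
      exact ⟨hS, hS', hS.extClass_naturality hS' ((ShortComplex.mk i (cokernel.π i) (cokernel.condition i)).mapNatTrans η)⟩
    refine ⟨fun x x' h => sub_eq_zero.1 ?_, fun y => ?_⟩
    · have hx : (x - x').comp (Ext.mk₀ (η.app A)) (add_zero _) = 0 := by
        rw [sub_eq_add_neg, Ext.add_comp, Ext.neg_comp, ← sub_eq_add_neg, sub_eq_zero]
        exact h
      obtain ⟨M, i, hi, hM, hα⟩ := hs A hA q (x - x')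
      obtain ⟨hS, hS', hnat⟩ := key i hi
      obtain ⟨β, hβ⟩ := Ext.covariant_sequence_exact₁ K hS (x - x') hα rfl
      have h' : (β.comp (Ext.mk₀ (η.app (cokernel i))) (add_zero q)).comp hS'.extClass rfl = 0 := by
        rw [Ext.comp_assoc_of_second_deg_zero, ← hnat]
        exact (Ext.comp_assoc_of_third_deg_zero β hS.extClass _ rfl).symm.trans
          ((congrArg (fun t => Ext.comp t (Ext.mk₀ (η.app A)) (add_zero _)) hβ).trans hx)
      obtain ⟨m', hm'⟩ := Ext.covariant_sequence_exact₃ K hS' _ rfl h'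
      obtain ⟨m, rfl⟩ := (ih M hM).2 m'
      have hm : m.comp (Ext.mk₀ (cokernel.π i)) (add_zero q) = β := (ih _ (hP i hi hA hM)).1 (by
        refine Eq.trans ?_ hm'
        show (m.comp _ _).comp _ _ = (m.comp _ _).comp (Ext.mk₀ (Φ.map (cokernel.π i))) _
        rw [Ext.comp_assoc_of_third_deg_zero, Ext.comp_assoc_of_third_deg_zero, Ext.mk₀_comp_mk₀,
          Ext.mk₀_comp_mk₀, ← η.naturality]
        rfl)
      rw [← hβ, ← hm, Ext.comp_assoc_of_second_deg_zero]
      exact (congrArg (m.comp · rfl) hS.comp_extClass).trans (Ext.comp_zero _ _ _ _ _)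
    · obtain ⟨M, i, hi, hM, hy⟩ := ht A hA q y
      obtain ⟨hS, hS', hnat⟩ := key i hi
      obtain ⟨c, hc⟩ := Ext.covariant_sequence_exact₁ K hS' y hy rfl
      obtain ⟨b, rfl⟩ := (ih _ (hP i hi hA hM)).2 c
      refine ⟨b.comp hS.extClass rfl, ?_⟩
      show (b.comp hS.extClass rfl).comp _ _ = y
      exact (Ext.comp_assoc_of_third_deg_zero b hS.extClass _ rfl).trans ((congrArg (b.comp · rfl) hnat).trans
        ((Ext.comp_assoc_of_second_deg_zero b _ hS'.extClass rfl).symm.trans hc))

end Groth.Agent.GabAcyc
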