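import Groth.Agent.GabAcyc.Efface
import Groth.Agent.GabAcyc.Delta
import Groth.Agent.EtCohDesc.Retract
import Groth.Agent.EtIntegral.Push
import Groth.Agent.EtRshriek.CoprodSheaf
import Groth.Agent.EtH1PBC.Classes
import Groth.Agent.S0122

/-!
# The affine analogue of proper base change for henselian pairs
-/

set_option autoImplicit false
set_option backward.isDefEq.respectTransparency false
set_option backward.isDefEq.respectTransparency.types false
set_option linter.style.haveILetI false
set_option linter.auxLemma false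

universe u

open CategoryTheory CategoryTheory.Limits CategoryTheory.Abelian AlgebraicGeometry Opposite

noncomputable section

namespace Groth.Agent.GabAcyc

attribute [local instance 100000] EtCoh.H._proof_1 EtMV.hext
attribute [local instance 200000] EtMV.hextAb

/-- For a closed subscheme of an affine scheme through which degree zero cohomology factors, all cohomology of
torsion sheaves factors. -/
theorem bijective_H_unit {X Z : Scheme.{u}} [IsAffine X] (i : Z ⟶ X) [IsClosedImmersion i]
    (h0 : ∀ F : EtCoh.Ab X, Function.Bijective (((EtCoh.pullPushAdj i).unit.app F).hom.app (op (EtCoh.top X))))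
    (F : EtCoh.Ab X) (hF : EtCoh.IsTorsion F) (q : ℕ) :
    Function.Bijective (Sheaf.H.map ((EtCoh.pullPushAdj i).unit.app F) q) := by
  haveI := EtPullExact.pull_preservesFiniteLimits i
  haveI : IsAffine Z := isAffine_of_isAffineHom i
  haveI : PreservesFiniteColimits (EtCoh.push i) := EtIntegral.push_preservesFiniteColimits i
  haveI : PreservesLimitsOfSize.{0, 0} (EtCoh.push i) := (EtCoh.pullPushAdj i).rightAdjoint_preservesLimits
  haveI : PreservesColimitsOfSize.{u + 1, u + 1} (EtCoh.pull i) :=
    (EtCoh.pullPushAdj i).leftAdjoint_preservesColimits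
  haveI : PreservesColimitsOfSize.{0, 0} (EtCoh.pull i) := (EtCoh.pullPushAdj i).leftAdjoint_preservesColimits
  let Φ := EtCoh.pull i ⋙ EtCoh.push i
  haveI : Φ.Additive := inferInstance
  refine bijective_ext_unit Φ (EtCoh.pullPushAdj i).unit (EtCoh.const X ℤ) EtCoh.IsTorsion
    (fun {A M} j _ _ hM => EtPBC.isTorsion_of_epi (cokernel.π j) hM) (fun A _ => ?_) (fun A hA q x => ?_)
    (fun A hA q y => ?_) q F hF
  · have hb : Function.Bijective fun ψ : EtCoh.const X ℤ ⟶ A => ψ ≫ (EtCoh.pullPushAdj i).unit.app A := by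
      refine ((EtMV.κ_bijective _).of_comp_iff' _).1 ?_
      exact (h0 A).comp (EtMV.κ_bijective A)
    have he : (fun x : Ext (EtCoh.const X ℤ) A 0 => x.comp (Ext.mk₀ ((EtCoh.pullPushAdj i).unit.app A)) (add_zero 0)) ∘
        Ext.mk₀ = Ext.mk₀ ∘ fun ψ : EtCoh.const X ℤ ⟶ A => ψ ≫ (EtCoh.pullPushAdj i).unit.app A :=
      funext fun ψ => Ext.mk₀_comp_mk₀ _ _
    exact ((Ext.mk₀_bijective _ _).of_comp_iff _).1 (he ▸ (Ext.mk₀_bijective _ _).comp hb)
  · obtain ⟨M, hM, j, hj, h⟩ := exists_efface_of (𝟙 X) (EtCoh.HF X (q + 1))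
      (fun J _ _ => EtColimH.preservesColimitsOfShape_HF (X := X) (q + 1) J)
      (fun G hG => EtPBC.subsingleton_H_of_iso ((EtCohDesc.pullIdIso (X := X)).app G) _ (hG _ q.succ_pos)) A hA x
    exact ⟨M, j, hj, hM, h⟩
  · obtain ⟨M, hM, j, hj, h⟩ := exists_efface_of i (Φ ⋙ EtCoh.HF X (q + 1))
      (fun J _ _ => by
        haveI := EtColimH.preservesColimitsOfShape_HF (X := X) (q + 1) J
        haveI : EtCoh.BCCont i := inferInstance
        haveI := EtRshriek.preservesFilteredColimits_push i J
        infer_instance)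
      (fun G hG => (EtPBC.subsingleton_H_iff_push i _
        (fun n => Groth.Agent.S3054.result i _ (n + 1) n.succ_pos) _).2 (hG _ q.succ_pos)) A hA y
    exact ⟨M, j, hj, hM, h⟩

end Groth.Agent.GabAcyc
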