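import Groth.Agent.GabAcyc.Main

/-!
# Integral covers by closed subschemes of absolutely integrally closed schemes
-/

set_option autoImplicit false
set_option backward.isDefEq.respectTransparency false
set_option backward.isDefEq.respectTransparency.types false
set_option linter.style.haveILetI false

universe u

open CategoryTheory CategoryTheory.Limits AlgebraicGeometry Opposite TensorProduct

noncomputable section

namespace Groth.Agent.GabAcyc

variable (A : Type u) [CommRing A] [IsDomain A] (K : Type u) [Field K] [Algebra A K] [IsFractionRing A K]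

theorem stalk_normal [IsIntegrallyClosed A] (x : Spec (CommRingCat.of A)) :
    IsIntegrallyClosed ((Spec (CommRingCat.of A)).presheaf.stalk x) := by
  let e : (Spec (CommRingCat.of A)).presheaf.stalk x ≃+* Localization.AtPrime x.asIdeal :=
    (Spec.stalkIso (CommRingCat.of A) x).commRingCatIsoToRingEquiv
  haveI : IsIntegrallyClosed (Localization.AtPrime x.asIdeal) :=
    isIntegrallyClosed_of_isLocalization _ x.asIdeal.primeCompl x.asIdeal.primeCompl_le_nonZeroDivisors
  exact IsIntegrallyClosed.of_equiv e.symm

omit [IsFractionRing A K] [Algebra A K] in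
theorem functionField_sepClosed' (R : CommRingCat.{u}) [IsDomain R] [Algebra R K] [IsFractionRing R K]
    [IsSepClosed K] : IsSepClosed (Spec R).functionField :=
  Hensel.isSepClosed_of_ringEquiv
    (IsLocalization.algEquiv (nonZeroDivisors R) K ((Spec R).functionField)).toRingEquiv

include K in
theorem functionField_sepClosed [IsSepClosed K] : IsSepClosed (Spec (CommRingCat.of A)).functionField :=
  @functionField_sepClosed' K _ (CommRingCat.of A) ‹IsDomain A› ‹Algebra A K› ‹IsFractionRing A K› _

/-- Affine schemes have integral covers embedded into absolutely integrally closed affine schemes. -/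
theorem exists_cover (X : Scheme.{u}) [IsAffine X] :
    ∃ (X' Y : Scheme.{u}) (π : X' ⟶ X) (j : X' ⟶ Y) (_ : IsAffine Y) (_ : IsIntegral Y), IsIntegralHom π ∧
      Surjective π ∧ IsClosedImmersion j ∧ (∀ y : Y, IsIntegrallyClosed (Y.presheaf.stalk y)) ∧
      IsSepClosed Y.functionField := by
  let R := Γ(X, ⊤)
  let P := MvPolynomial R ℤ
  let L := AlgebraicClosure (FractionRing P)
  let A := integralClosure P L
  have hinj : ∀ x : P, algebraMap P L x = 0 → x = 0 := fun x hx => by
    rw [IsScalarTower.algebraMap_apply P (FractionRing P) L, map_eq_zero] at hx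
    exact IsFractionRing.injective P (FractionRing P) (hx.trans (map_zero _).symm)
  haveI : Algebra.IsAlgebraic P L :=
    (IsFractionRing.comap_isAlgebraic_iff (A := P) (K := FractionRing P) (C := L)).2 inferInstance
  haveI : IsFractionRing A L := integralClosure.isFractionRing_of_algebraic hinj
  haveI : IsIntegrallyClosed A := by
    rw [isIntegrallyClosed_iff L]
    intro x hx
    exact ⟨⟨x, isIntegral_trans x hx⟩, rfl⟩
  haveI : IsSepClosed L := inferInstance
  haveI : Algebra.IsIntegral P A := inferInstance
  let q : P →+* R := MvPolynomial.eval₂Hom (Int.castRingHom R) id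
  have hq : Function.Surjective q := fun r => ⟨MvPolynomial.X r, MvPolynomial.eval₂_X _ _ r⟩
  let Y := Spec (CommRingCat.of A)
  let g : Y ⟶ Spec (CommRingCat.of P) := Spec.map (CommRingCat.ofHom (algebraMap P A))
  let k : X ⟶ Spec (CommRingCat.of P) := X.isoSpec.hom ≫ Spec.map (CommRingCat.ofHom q)
  haveI : IsClosedImmersion (Spec.map (CommRingCat.ofHom q)) := IsClosedImmersion.spec_of_surjective _ hq
  haveI : IsIntegralHom g := IsIntegralHom.SpecMap_iff.2 (algebraMap_isIntegral_iff.2 inferInstance)
  haveI : FaithfulSMul P A := (faithfulSMul_iff_algebraMap_injective P A).2 fun a b h => by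
    have h' : algebraMap P L a = algebraMap P L b := by
      rw [IsScalarTower.algebraMap_apply P A L, h, ← IsScalarTower.algebraMap_apply P A L]
    exact sub_eq_zero.1 (hinj _ (by rw [map_sub, h', sub_self]))
  haveI : Surjective g := ⟨fun p => Algebra.IsIntegral.comap_surjective P A p⟩
  refine ⟨pullback k g, Y, pullback.fst k g, pullback.snd k g, inferInstance, inferInstance,
    MorphismProperty.pullback_fst _ _ inferInstance, MorphismProperty.pullback_fst _ _ inferInstance,
    MorphismProperty.pullback_snd _ _ inferInstance, stalk_normal A, functionField_sepClosed A L⟩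

end Groth.Agent.GabAcyc
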