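import Groth.Agent.GabAcyc.Cover
import Groth.Agent.EtPBC.CdPush
import Groth.Agent.EtPBC.ConstKilled
import Groth.Agent.EtPBC.TopShriek
import Groth.Agent.EtCons.Presentation
import Groth.Agent.EtColimH.Main
import Groth.Agent.S3054
import Groth.Agent.S0655
import Groth.Agent.S0144
import Groth.Agent.S0134
import Groth.Agent.S14622

/-!
# Effacing cohomology on a closed subscheme of an affine scheme by a monomorphism of torsion sheaves
-/

set_option autoImplicit false
set_option backward.isDefEq.respectTransparency false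
set_option backward.isDefEq.respectTransparency.types false
set_option linter.style.haveILetI false
set_option linter.auxLemma false

universe u

open CategoryTheory CategoryTheory.Limits CategoryTheory.Abelian AlgebraicGeometry Opposite

noncomputable section

namespace Groth.Agent.GabAcyc

attribute [local instance 100000] EtCoh.H._proof_1 EtMV.hext
attribute [local instance 200000] EtMV.hextAb

variable {X : Scheme.{u}}

theorem killed_constOf (M : Type) [AddCommGroup M] [Finite M] : EtPBC.Killed (Nat.card M) (EtCoh.const X M) := by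
  refine (EtPBC.killed_iff _ _).2 ?_
  have hA : Nat.card M • 𝟙 (AddCommGrpCat.of (ULift.{u + 1} M)) = 0 := by
    ext ⟨a⟩
    show Nat.card M • a = 0
    exact card_nsmul_eq_zero'
  simpa [Functor.map_nsmul] using congrArg (fun m => (EtPBC.cstF X).map m) hA

theorem isTorsion_biprod {F G : EtCoh.Ab X} (hF : EtCoh.IsTorsion F) (hG : EtCoh.IsTorsion G) :
    EtCoh.IsTorsion (F ⊞ G) := by
  intro U s x
  obtain ⟨V, g, ⟨v, hv⟩, hf⟩ := hF U ((biprod.fst : F ⊞ G ⟶ F).hom.app (op U) s) x
  obtain ⟨W, h, ⟨w, hw⟩, hg⟩ := hG V ((biprod.snd : F ⊞ G ⟶ G).hom.app (op V) ((F ⊞ G).obj.map g.op s)) v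
  refine ⟨W, h ≫ g, ⟨w, by rw [← hv, ← hw]; rfl⟩, ?_⟩
  have e := ConcreteCategory.congr_hom
    (NatTrans.congr_app (congrArg (fun φ => φ.hom) (biprod.total (X := F) (Y := G))) (op W))
    ((F ⊞ G).obj.map (h ≫ g).op s)
  refine (congrArg IsOfFinAddOrder e).mp (IsOfFinAddOrder.add ?_ ?_)
  · refine ((biprod.inl : F ⟶ F ⊞ G).hom.app (op W)).hom.isOfFinAddOrder ?_
    refine (congrArg IsOfFinAddOrder ?_).mp ((F.obj.map h.op).hom.isOfFinAddOrder hf)
    change F.obj.map h.op (F.obj.map g.op ((biprod.fst : F ⊞ G ⟶ F).hom.app (op U) s)) =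
      (biprod.fst : F ⊞ G ⟶ F).hom.app (op W) ((F ⊞ G).obj.map (h ≫ g).op s)
    rw [NatTrans.naturality_apply, op_comp, Functor.map_comp, ConcreteCategory.comp_apply]
  · refine ((biprod.inr : G ⟶ F ⊞ G).hom.app (op W)).hom.isOfFinAddOrder ?_
    refine (congrArg IsOfFinAddOrder ?_).mp hg
    change G.obj.map h.op ((biprod.snd : F ⊞ G ⟶ G).hom.app (op V) ((F ⊞ G).obj.map g.op s)) =
      (biprod.snd : F ⊞ G ⟶ G).hom.app (op W) ((F ⊞ G).obj.map (h ≫ g).op s)
    rw [op_comp, Functor.map_comp, ConcreteCategory.comp_apply]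
    exact (NatTrans.naturality_apply _ h.op _).symm

/-- Every affine scheme carries constant sheaf pushforwards effacing constructible sheaves on closed subschemes. -/
theorem exists_effacing [IsAffine X] {Z : Scheme.{u}} (i : Z ⟶ X) [IsClosedImmersion i] (F : EtCoh.Ab X)
    (hF : EtPBC.IsConstructible F) :
    ∃ (G : EtCoh.Ab X) (_ : EtCoh.IsTorsion G) (j : F ⟶ G), Mono j ∧
      ∀ q, 0 < q → Subsingleton (EtCoh.H Z ((EtCoh.pull i).obj G) q) := by
  classical
  obtain ⟨n, Y, f, hf, -, M, _, _, hι⟩ := Groth.Agent.S0144.result X F hF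
  haveI : ∀ k, IsFinite (f k) := hf
  obtain ⟨ι, hι⟩ := hι
  haveI := hι
  haveI : ∀ k, IsAffine (Y k) := fun k => isAffine_of_isAffineHom (f k)
  choose Y' W π c hW hWi hint hsur hc hN hsc using fun k => exists_cover (Y k)
  haveI : ∀ k, IsIntegralHom (π k) := hint
  haveI : ∀ k, Surjective (π k) := hsur
  let P : Fin n → EtCoh.Ab X := fun k => (EtCoh.push (π k ≫ f k)).obj (EtCoh.const (Y' k) (M k))
  let u : ∀ k, (EtCoh.push (f k)).obj (EtCoh.const (Y k) (M k)) ⟶ P k := fun k =>
    (EtCoh.push (f k)).map ((EtCoh.pullPushAdj (π k)).unit.app _ ≫ (EtCoh.push (π k)).map (EtCore.pullConst (π k) (M k)).hom) ≫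
      (EtCoh.pushComp (f k) (π k)).hom.app _
  haveI : ∀ k, Mono (u k) := fun k => by
    haveI := Groth.Agent.S14622.result (π k) (EtCoh.const (Y k) (M k))
    haveI : PreservesLimitsOfSize.{0, 0} (EtCoh.push (f k)) := (EtCoh.pullPushAdj (f k)).rightAdjoint_preservesLimits
    haveI : (EtCoh.push (f k)).PreservesMonomorphisms := preservesMonomorphisms_of_preservesLimitsOfShape _
    haveI : Mono ((EtCoh.pullPushAdj (π k)).unit.app (EtCoh.const (Y k) (M k)) ≫
        (EtCoh.push (π k)).map (EtCore.pullConst (π k) (M k)).hom) := mono_comp _ _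
    haveI h2 := (EtCoh.push (f k)).map_mono ((EtCoh.pullPushAdj (π k)).unit.app (EtCoh.const (Y k) (M k)) ≫
        (EtCoh.push (π k)).map (EtCore.pullConst (π k) (M k)).hom)
    exact @mono_comp _ _ _ _ _ _ h2 _ inferInstance
  have hk : EtCoh.KilledBy (∏ k, Nat.card (M k)) (⨁ P) := EtCons.killedBy_biproduct P _ fun k U s => by
    obtain ⟨d, hd⟩ : Nat.card (M k) ∣ ∏ l, Nat.card (M l) := Finset.dvd_prod_of_mem _ (Finset.mem_univ k)
    rw [hd, mul_comm, mul_nsmul', EtPBC.killed_push (π k ≫ f k) (killed_constOf (M k)) U s, nsmul_zero]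
  have hpos : 0 < ∏ k, Nat.card (M k) := Finset.prod_pos fun k _ => Nat.card_pos
  refine ⟨⨁ P, fun U s x => ⟨U, 𝟙 U, ⟨x, rfl⟩, isOfFinAddOrder_iff_nsmul_eq_zero.2 ⟨_, hpos, hk U _⟩⟩,
    ι ≫ biproduct.map u, inferInstance, fun q hq => ?_⟩
  haveI := EtPullExact.pull_preservesFiniteLimits i
  let T := EtCoh.pull i ⋙ EtCoh.HF Z q
  haveI : T.Additive := by
    haveI : (EtCoh.HF Z q).Additive := inferInstanceAs (Sheaf.functorH Z.smallEtaleTopology q).Additive
    infer_instance
  have hP : ∀ k, Subsingleton (T.obj (P k)) := fun k => by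
    let g := π k ≫ f k
    let b : pullback g i ⟶ Z := pullback.snd g i
    haveI : IsIntegralHom b := MorphismProperty.pullback_snd _ _ inferInstance
    haveI := hW k
    haveI := hWi k
    haveI := hsc k
    haveI := hc k
    haveI : IsClosedImmersion (pullback.fst g i) := MorphismProperty.pullback_fst _ _ inferInstance
    haveI := Groth.Agent.S0655.result g i b (pullback.fst g i) (IsPullback.of_hasPullback g i)
      (EtCoh.const (Y' k) (M k))
    refine EtPBC.subsingleton_H_of_iso (asIso (EtCoh.baseChange0 g i b (pullback.fst g i)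
      (IsPullback.of_hasPullback g i).w (EtCoh.const (Y' k) (M k)))).symm q ?_
    refine EtPBC.subsingleton_H_of_iso ((EtCoh.push b).mapIso (EtCore.pullConst (pullback.fst g i) (M k)).symm) q ?_
    rw [EtPBC.subsingleton_H_iff_push b _ fun q => Groth.Agent.S3054.result b _ (q + 1) q.succ_pos]
    exact subsingleton_H (hN k) (pullback.fst g i ≫ c k) (M k) q hq
  have hz : IsZero (T.obj (⨁ P)) := by
    rw [IsZero.iff_id_eq_zero, ← T.map_id, ← biproduct.total, Functor.map_sum]
    refine Finset.sum_eq_zero fun k _ => ?_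
    haveI := hP k
    rw [Functor.map_comp, (AddCommGrpCat.isZero_of_subsingleton (T.obj (P k))).eq_of_tgt (T.map (biproduct.π P k)) 0,
      zero_comp]
  exact AddCommGrpCat.subsingleton_of_isZero hz

/-- Effacement for a functor vanishing on sheaves acyclic on the closed subscheme. -/
theorem exists_efface_of [IsAffine X] {Z : Scheme.{u}} (i : Z ⟶ X) [IsClosedImmersion i]
    (T : EtCoh.Ab X ⥤ AddCommGrpCat.{u + 1})
    (hcol : ∀ (J : Type (u + 1)) [SmallCategory J] [IsFiltered J], PreservesColimitsOfShape J T)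
    (hvan : ∀ G : EtCoh.Ab X, (∀ q, 0 < q → Subsingleton (EtCoh.H Z ((EtCoh.pull i).obj G) q)) → Subsingleton (T.obj G))
    (F : EtCoh.Ab X) (hF : EtCoh.IsTorsion F) (ξ : T.obj F) :
    ∃ (F' : EtCoh.Ab X) (_ : EtCoh.IsTorsion F') (φ : F ⟶ F') (_ : Mono φ), T.map φ ξ = 0 := by
  obtain ⟨J, _, _, D, c, hc, hD, ⟨e⟩⟩ := Groth.Agent.S0134.result X F hF
  haveI := hcol J
  obtain ⟨a, ξa, hξ⟩ := Concrete.isColimit_exists_rep _ (isColimitOfPreserves T hc) (T.map e.inv ξ)
  obtain ⟨G, hG, j, _, hGq⟩ := exists_effacing i (D.obj a) (hD a)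
  let m : D.obj a ⟶ F := c.ι.app a ≫ e.hom
  refine ⟨pushout m j, ?_, pushout.inl m j, inferInstance, ?_⟩
  · haveI : Epi (biprod.desc (pushout.inl m j) (pushout.inr m j)) := ⟨fun a b h => by
      refine pushout.hom_ext ?_ ?_
      · simpa using biprod.inl ≫= h
      · simpa using biprod.inr ≫= h⟩
    exact EtPBC.isTorsion_of_epi (biprod.desc (pushout.inl m j) (pushout.inr m j)) (isTorsion_biprod hF hG)
  · have h1 : T.map m ξa = ξ := by
      rw [Functor.map_comp, ConcreteCategory.comp_apply]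
      change T.map e.hom ((T.mapCocone c).ι.app a ξa) = ξ
      rw [hξ, ← ConcreteCategory.comp_apply, ← Functor.map_comp, e.inv_hom_id, CategoryTheory.Functor.map_id]
      rfl
    change T.map (pushout.inl m j) ξ = 0
    haveI : Subsingleton (T.obj G) := hvan G hGq
    rw [← h1, ← ConcreteCategory.comp_apply, ← Functor.map_comp, pushout.condition, Functor.map_comp,
      ConcreteCategory.comp_apply, Subsingleton.elim (T.map j ξa) 0, map_zero]

/-- Cohomology classes of torsion sheaves on a closed subscheme are effaced. -/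
theorem exists_efface [IsAffine X] {Z : Scheme.{u}} (i : Z ⟶ X) [IsClosedImmersion i] (F : EtCoh.Ab X)
    (hF : EtCoh.IsTorsion F) (q : ℕ) (hq : 0 < q) (ξ : EtCoh.H Z ((EtCoh.pull i).obj F) q) :
    ∃ (F' : EtCoh.Ab X) (_ : EtCoh.IsTorsion F') (φ : F ⟶ F') (_ : Mono φ),
      Sheaf.H.map ((EtCoh.pull i).map φ) q ξ = 0 := by
  haveI : IsAffine Z := isAffine_of_isAffineHom i
  refine exists_efface_of i (EtCoh.pull i ⋙ EtCoh.HF Z q) (fun J _ _ => ?_) (fun G hG => hG q hq) F hF ξ
  haveI := EtColimH.preservesColimitsOfShape_HF (X := Z) q J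
  haveI : PreservesColimitsOfSize.{u + 1, u + 1} (EtCoh.pull i) :=
    (EtCoh.pullPushAdj i).leftAdjoint_preservesColimits
  infer_instance

end Groth.Agent.GabAcyc
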