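import Groth.Agent.ColimFP.Basic
import Groth.Agent.EtLimit.Systems
import Groth.Agent.EtMemRange.Main
import Groth.Agent.EtPBC.CdPush
import Groth.Agent.GabAcyc.Affine
import Groth.Agent.HensCouple.ProperPair
import Groth.Agent.Popescu.PairNbhd
import Groth.Agent.EtAcycX.Descend
import Groth.Agent.EtPBC.AllBC

/-!
# Étale cohomology of the henselization of a pair as a limit over étale neighbourhoods
-/

set_option autoImplicit false
set_option backward.isDefEq.respectTransparency false
set_option backward.isDefEq.respectTransparency.types false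
set_option linter.style.haveILetI false
set_option linter.auxLemma false

universe u

open CategoryTheory CategoryTheory.Limits CategoryTheory.Abelian AlgebraicGeometry Opposite

noncomputable section

namespace Groth.Agent.GabAcyc

attribute [local instance 100000] EtCoh.H._proof_1 EtMV.hext
attribute [local instance 200000] EtMV.hextAb

theorem subsingleton_H_pull_pull_iff {X Y Z : Scheme.{u}} (f : X ⟶ Y) (g : Y ⟶ Z) (h : X ⟶ Z) (w : f ≫ g = h)
    (G : EtCoh.Ab Z) (q : ℕ) :
    Subsingleton (EtCoh.H X ((EtCoh.pull f).obj ((EtCoh.pull g).obj G)) q) ↔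
      Subsingleton (EtCoh.H X ((EtCoh.pull h).obj G) q) :=
  let e := ((EtCore.pullComp f g).symm.app G) ≪≫ (EtCore.pullCongr w).app G
  ⟨EtPBC.subsingleton_H_of_iso e q, EtPBC.subsingleton_H_of_iso e.symm q⟩

theorem isTorsion_pull {X Y : Scheme.{u}} (f : Y ⟶ X) {F : EtCoh.Ab X} (hF : EtCoh.IsTorsion F) :
    EtCoh.IsTorsion ((EtCoh.pull f).obj F) := fun U s x => by
  obtain ⟨V, g, m, hx, hm, h⟩ := EtAcycX.isLTorsion_pull f (EtPBC.isLTorsion_univ_of_isTorsion hF) U s x
  exact ⟨V, g, hx, isOfFinAddOrder_iff_nsmul_eq_zero.2 ⟨m, hm.1, h⟩⟩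

/-- Cohomology of the henselization of a pair vanishes if it vanishes on all étale neighbourhoods. -/
theorem subsingleton_H_pairEnv {A : Type u} [CommRing A] (I : Ideal A) (G : EtCoh.Ab (Spec (CommRingCat.of A)))
    (q : ℕ)
    (hG : ∀ (E : Type u) [CommRing E] [Algebra A E] [Algebra.Etale A E],
      Function.Bijective (Ideal.quotientMap (I.map (algebraMap A E)) (algebraMap A E) Ideal.le_comap_map) →
        Subsingleton (EtCoh.H (Spec (CommRingCat.of E))
          ((EtCoh.pull (Spec.map (CommRingCat.ofHom (algebraMap A E)))).obj G) q)) :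
    Subsingleton (EtCoh.H (Spec (CommRingCat.of (Hensel.PairEnv A I)))
      ((EtCoh.pull (Spec.map (CommRingCat.ofHom (algebraMap A (Hensel.PairEnv A I))))).obj G) q) := by
  let B : Type u := Hensel.PairEnv A I
  let d := ColimFP.diag A B ⋙ Under.forget (CommRingCat.of A)
  let cc := (Under.forget (CommRingCat.of A)).mapCocone (ColimFP.cocone A B)
  haveI : IsConnected (ColimFP.Idx A B) := IsFiltered.isConnected _
  have h1 : IsColimit cc := isColimitOfPreserves _ (ColimFP.isColimit A B)
  let D : (ColimFP.Idx A B)ᵒᵖ ⥤ Scheme.{u} := d.op ⋙ Scheme.Spec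
  let c : Cone D := Scheme.Spec.mapCone cc.op
  have hc : IsLimit c := isLimitOfPreserves Scheme.Spec h1.op
  haveI : ∀ i, IsAffine (D.obj i) := fun i => isAffine_Spec _
  haveI : ∀ i, CompactSpace (D.obj i) := fun i => inferInstance
  haveI : ∀ i, QuasiSeparatedSpace (D.obj i) := fun i => inferInstance
  haveI : ∀ {i j} (f : i ⟶ j), IsAffineHom (D.map f) := fun f => isAffineHom_of_isAffine _
  let i₀ : (ColimFP.Idx A B)ᵒᵖ := op ColimFP.bot
  let t : D.obj i₀ ⟶ Spec (CommRingCat.of A) :=
    Spec.map (CommRingCat.ofHom (algebraMap A (ColimFP.alg (ColimFP.bot (R := A) (A := B)))))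
  have ht : EtLimit.uπ c i₀ ≫ t = Spec.map (CommRingCat.ofHom (algebraMap A B)) := by
    exact (Spec.map_comp _ _).symm.trans (congrArg Spec.map (Under.w ((ColimFP.cocone A B).ι.app ColimFP.bot)))
  refine (subsingleton_H_pull_pull_iff (EtLimit.uπ c i₀) t _ ht G q).1 ⟨fun a b => ?_⟩
  suffices key : ∀ ξ : EtCoh.H c.pt ((EtCoh.pull (EtLimit.uπ c i₀)).obj ((EtCoh.pull t).obj G)) q, ξ = 0 from
    (key a).trans (key b).symm
  intro ξ
  haveI : ∀ j, PreservesFiniteLimits (EtCoh.pull (EtLimit.uπ c j)) := fun j =>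
    EtPullExact.pull_preservesFiniteLimits _
  obtain ⟨o, x, rfl⟩ := EtLimit.pull_surj (D := D) (c := c) hc i₀ ((EtCoh.pull t).obj G) q ξ
  let i : ColimFP.Idx A B := o.left.unop
  haveI := ColimFP.finitePresentation i
  obtain ⟨E, _, _, _, hE, η, φ, hφ⟩ := Popescu.exists_nhd_factor (ColimFP.alg i) (ColimFP.toA i)
  let g : c.pt ⟶ Spec (CommRingCat.of E) := Spec.map (CommRingCat.ofHom φ.toRingHom)
  let h : Spec (CommRingCat.of E) ⟶ D.obj o.left := Spec.map (CommRingCat.ofHom η.toRingHom)
  have w : g ≫ h = EtLimit.uπ c o.left := by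
    refine (Spec.map_comp _ _).symm.trans (congrArg Spec.map ?_)
    ext a
    exact AlgHom.congr_fun hφ a
  have w' : h ≫ D.map o.hom ≫ t = Spec.map (CommRingCat.ofHom (algebraMap A E)) := by
    have e1 : D.map o.hom ≫ t = Spec.map (CommRingCat.ofHom (algebraMap A (ColimFP.alg i))) := by
      exact (Spec.map_comp _ _).symm.trans (congrArg Spec.map (Under.w ((ColimFP.diag A B).map o.hom.unop)))
    rw [e1]
    refine (Spec.map_comp _ _).symm.trans (congrArg Spec.map ?_)
    ext a
    exact η.commutes a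
  haveI := EtPullExact.pull_preservesFiniteLimits h
  have hs : Subsingleton (EtCoh.H (Spec (CommRingCat.of E))
      ((EtCoh.pull h).obj ((EtCoh.pull (D.map o.hom)).obj ((EtCoh.pull t).obj G))) q) := by
    refine (subsingleton_H_pull_pull_iff h (D.map o.hom) (h ≫ D.map o.hom) rfl _ q).2 ?_
    refine (subsingleton_H_pull_pull_iff (h ≫ D.map o.hom) t _ ?_ G q).2 (hG E hE)
    rw [Category.assoc]; exact w'
  have hx : EtCore.Hpull (EtLimit.uπ c o.left) ((EtCoh.pull (D.map o.hom)).obj ((EtCoh.pull t).obj G)) q x = 0 :=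
    EtMemRange.Hpull_comp_eq_zero g h _ w _ q x (Subsingleton.elim _ _)
  rw [EtAcycX.HpullVia_eq, hx, Ext.zero_comp]

/-- A torsion sheaf on an affine scheme which is acyclic on all affine étale schemes over it is acyclic on every
closed subscheme. -/
theorem subsingleton_H_closed {A : Type u} [CommRing A] {Z : Scheme.{u}} (i : Z ⟶ Spec (CommRingCat.of A))
    [IsClosedImmersion i] (G : EtCoh.Ab (Spec (CommRingCat.of A)))
    (hT : EtCoh.IsTorsion G) (q : ℕ)
    (hG : ∀ (E : Type u) [CommRing E] [Algebra A E] [Algebra.Etale A E],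
        Subsingleton (EtCoh.H (Spec (CommRingCat.of E))
          ((EtCoh.pull (Spec.map (CommRingCat.ofHom (algebraMap A E)))).obj G) q)) :
    Subsingleton (EtCoh.H Z ((EtCoh.pull i).obj G) q) := by
  haveI : IsAffine Z := isAffine_of_isAffineHom i
  obtain ⟨φ, hφ⟩ : ∃ φ : CommRingCat.of A ⟶ Γ(Z, ⊤), Z.isoSpec.hom ≫ Spec.map φ = i := by
    obtain ⟨φ, hφ⟩ := Spec.map_surjective (Z.isoSpec.inv ≫ i)
    exact ⟨φ, by rw [hφ, Iso.hom_inv_id_assoc]⟩
  have hsur : Function.Surjective φ := by
    haveI : IsClosedImmersion (Spec.map φ) := by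
      rw [show Spec.map φ = Z.isoSpec.inv ≫ i by rw [← hφ, Iso.inv_hom_id_assoc]]
      infer_instance
    have h := (IsClosedImmersion.isAffine_surjective_of_isAffine (Spec.map φ)).2
    intro y
    obtain ⟨x, hx⟩ := h ((Scheme.ΓSpecIso Γ(Z, ⊤)).inv y)
    refine ⟨(Scheme.ΓSpecIso _).hom x, ?_⟩
    have hn : ∀ a, (Scheme.ΓSpecIso Γ(Z, ⊤)).hom ((Spec.map φ).appTop a) = φ ((Scheme.ΓSpecIso _).hom a) := fun a =>
      congrArg (fun f : _ ⟶ Γ(Z, ⊤) => f a) (Scheme.ΓSpecIso_naturality φ)
    rw [← hn]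
    erw [hx]
    exact congrArg (fun f : Γ(Z, ⊤) ⟶ Γ(Z, ⊤) => f y) (Scheme.ΓSpecIso Γ(Z, ⊤)).inv_hom_id
  let I : Ideal A := RingHom.ker φ.hom
  have hB := subsingleton_H_pairEnv I G q (fun E _ _ _ _ => hG E)
  let B : Type u := Hensel.PairEnv A I
  let J : Ideal B := I.map (algebraMap A B)
  haveI : HenselianRing B J := Hensel.henselianRing_pairEnv A I
  let e : A ⧸ I ≃+* Γ(Z, ⊤) := RingHom.quotientKerEquivOfSurjective hsur
  let r₀ : B →+* Γ(Z, ⊤) := e.toRingHom.comp (Hensel.pairRes A I).toRingHom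
  have hr : Function.Surjective r₀ := e.surjective.comp (Hensel.pairRes_surjective A I)
  let r : CommRingCat.of B ⟶ Γ(Z, ⊤) := CommRingCat.ofHom r₀
  let i' : Z ⟶ Spec (CommRingCat.of B) := Z.isoSpec.hom ≫ Spec.map r
  haveI : IsClosedImmersion (Spec.map r) := IsClosedImmersion.spec_of_surjective _ hr
  haveI : IsClosedImmersion i' := inferInstanceAs (IsClosedImmersion (_ ≫ _))
  have hi : Set.range i' = PrimeSpectrum.zeroLocus (J : Set B) := by
    have hk : RingHom.ker r₀ = J := by
      rw [show J = RingHom.ker (Hensel.pairRes A I).toRingHom from (Hensel.ker_pairRes A I).symm]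
      ext x
      exact e.map_eq_zero_iff
    rw [← hk, show Set.range i' = Set.range (Spec.map r) from
      (Z.isoSpec.hom.surjective.range_comp (Spec.map r))]
    exact _root_.range_comap_of_surjective _ _ hr
  let β : Spec (CommRingCat.of B) ⟶ Spec (CommRingCat.of A) := Spec.map (CommRingCat.ofHom (algebraMap A B))
  have hw : i' ≫ β = i := by
    rw [← hφ, Category.assoc, ← Spec.map_comp]
    refine congrArg (fun f => Z.isoSpec.hom ≫ Spec.map f) ?_
    ext a
    exact (congrArg e ((Hensel.pairRes A I).commutes a)).trans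
      (RingHom.quotientKerEquivOfSurjective_apply_mk hsur a)
  have hb := HensCouple.bijective_H_unit_proper (A := B) (I := J) (𝟙 _) i' hi i' (𝟙 _)
    (IsPullback.of_vert_isIso ⟨rfl⟩) ((EtCoh.pull β).obj G) (isTorsion_pull β hT) q
  haveI := EtPullExact.pull_preservesFiniteLimits i'
  refine (subsingleton_H_pull_pull_iff i' β _ hw G q).1 ?_
  refine (EtPBC.subsingleton_H_iff_push i' _ (fun n => Groth.Agent.S3054.result i' _ (n + 1) n.succ_pos) _).1 ?_
  exact @Function.Surjective.subsingleton _ _ _ hB hb.2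

end Groth.Agent.GabAcyc
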