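import Groth.Agent.ModCstAcyc.Site
import Mathlib.Algebra.Category.ModuleCat.Presheaf.Sheafification
import Mathlib.Algebra.Category.ModuleCat.Sheaf.Abelian

/-!
Injective sheaves of modules over a sheaf of (not necessarily commutative) rings on an arbitrary site have no
higher `Ext` out of torsion free abelian sheaves.
-/

set_option autoImplicit false
set_option backward.isDefEq.respectTransparency false
set_option backward.isDefEq.respectTransparency.types false
set_option linter.style.haveILetI false

universe t u v w

open CategoryTheory Category Limits Opposite Abelian TensorProduct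

noncomputable section

namespace Groth.Agent.GabAcyc.InjMod

variable {C : Type v} [Category.{w} C] {J : GrothendieckTopology C} (R : Sheaf J RingCat.{u})
variable (H : Cᵒᵖ ⥤ AddCommGrpCat.{u})

/-- `U ↦ R(U) ⊗_ℤ H(U)` as a presheaf of abelian groups -/
def extPresheaf : Cᵒᵖ ⥤ AddCommGrpCat.{u} where
  obj U := AddCommGrpCat.of ((R.obj.obj U : Type u) ⊗[ℤ] (H.obj U : Type u))
  map {U V} f := AddCommGrpCat.ofHom (TensorProduct.map
    ((R.obj.map f).hom.toAddMonoidHom.toIntLinearMap) ((H.map f).hom.toIntLinearMap)).toAddMonoidHom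
  map_id U := by
    ext x
    induction x using TensorProduct.induction_on with
    | zero => exact (map_zero _).trans (map_zero _).symm
    | tmul r h => simp
    | add a b ha hb => exact (map_add _ a b).trans ((congrArg₂ _ ha hb).trans (map_add _ a b).symm)
  map_comp f g := by
    ext x
    induction x using TensorProduct.induction_on with
    | zero => exact (map_zero _).trans (map_zero _).symm
    | tmul r h => simp
    | add a b ha hb => exact (map_add _ a b).trans ((congrArg₂ _ ha hb).trans (map_add _ a b).symm)

instance (U : Cᵒᵖ) : Module (R.obj.obj U) ((extPresheaf R H).obj U) :=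
  inferInstanceAs (Module (R.obj.obj U : Type u) ((R.obj.obj U : Type u) ⊗[ℤ] (H.obj U : Type u)))

/-- `R ⊗_ℤ H` -/
def extPM : PresheafOfModules.{u} R.obj :=
  PresheafOfModules.ofPresheaf (extPresheaf R H) fun U V f r m => by
    change (R.obj.obj U : Type u) ⊗[ℤ] (H.obj U : Type u) at m
    let φ := TensorProduct.map
      ((R.obj.map f).hom.toAddMonoidHom.toIntLinearMap) ((H.map f).hom.toIntLinearMap)
    change φ (r • m) = (R.obj.map f).hom r • φ m
    induction m using TensorProduct.induction_on with
    | zero => rw [smul_zero, map_zero, smul_zero]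
    | tmul a h =>
      change φ ((r * a) ⊗ₜ[ℤ] h) = ((R.obj.map f).hom r * (R.obj.map f).hom a) ⊗ₜ[ℤ] _
      exact congrArg (fun z => z ⊗ₜ[ℤ] _) (map_mul (R.obj.map f).hom r a)
    | add a b ha hb => rw [smul_add, map_add, map_add, ha, hb, smul_add]

variable {R H} {H' : Cᵒᵖ ⥤ AddCommGrpCat.{u}}

variable (R) in
/-- functoriality of `R ⊗_ℤ -` -/
def extMap (t : H ⟶ H') : extPM R H ⟶ extPM R H' :=
  PresheafOfModules.homMk
    { app := fun U => AddCommGrpCat.ofHom
        (LinearMap.lTensor (R.obj.obj U : Type u) (t.app U).hom.toIntLinearMap).toAddMonoidHom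
      naturality := fun U V f => by
        ext x
        change (R.obj.obj U : Type u) ⊗[ℤ] (H.obj U : Type u) at x
        induction x using TensorProduct.induction_on with
        | zero => exact (map_zero _).trans (map_zero _).symm
        | tmul r h =>
          exact congrArg (fun z => (R.obj.map f).hom r ⊗ₜ[ℤ] z) (ConcreteCategory.congr_hom (t.naturality f) h)
        | add a b ha hb => exact (map_add _ a b).trans ((congrArg₂ _ ha hb).trans (map_add _ a b).symm) }
    fun U r m => by
      change (R.obj.obj U : Type u) ⊗[ℤ] (H.obj U : Type u) at m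
      let φ := LinearMap.lTensor (R.obj.obj U : Type u) (t.app U).hom.toIntLinearMap
      change φ (r • m) = r • φ m
      induction m using TensorProduct.induction_on with
      | zero => rw [smul_zero, map_zero, smul_zero]
      | tmul a h => rfl
      | add a b ha hb => rw [smul_add, map_add, map_add, ha, hb, smul_add]

/-- `h ↦ 1 ⊗ h` -/
def extUnit : H ⟶ (extPM R H).presheaf where
  app U := AddCommGrpCat.ofHom
    (TensorProduct.mk ℤ (R.obj.obj U : Type u) (H.obj U : Type u) 1).toAddMonoidHom
  naturality U V f := by
    ext h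
    exact (congrArg (fun z => z ⊗ₜ[ℤ] _) (map_one (R.obj.map f).hom)).symm

lemma extUnit_naturality (t : H ⟶ H') :
    t ≫ extUnit (R := R) = extUnit ≫ (PresheafOfModules.toPresheaf _).map (extMap R t) := by
  ext U h
  rfl

/-- the `R`-linear map attached to an additive one -/
def extDesc {M : PresheafOfModules.{u} R.obj} (t : H ⟶ M.presheaf) : extPM R H ⟶ M :=
  letI : ∀ U, Module (R.obj.obj U) (M.presheaf.obj U) := fun U => (M.obj U).isModule
  let L : ∀ U, ((R.obj.obj U : Type u) ⊗[ℤ] (H.obj U : Type u)) →+ (M.presheaf.obj U) :=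
    fun U => (TensorProduct.lift (LinearMap.mk₂ ℤ
      (fun (r : R.obj.obj U) (h : H.obj U) => r • (show M.presheaf.obj U from (t.app U).hom h))
      (fun a b h => add_smul a b _) (fun c a h => smul_assoc c a _)
      (fun r a b => by rw [map_add]; exact smul_add r _ _) (fun c r a => by rw [map_zsmul]; exact smul_comm r c _))).toAddMonoidHom
  PresheafOfModules.homMk
    { app := fun U => AddCommGrpCat.ofHom (L U)
      naturality := fun U V f => by
        ext x
        change (R.obj.obj U : Type u) ⊗[ℤ] (H.obj U : Type u) at x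
        induction x using TensorProduct.induction_on with
        | zero => exact (map_zero _).trans (map_zero _).symm
        | tmul r h =>
          exact ((congrArg (fun z : M.presheaf.obj V => (R.obj.map f).hom r • z)
            (ConcreteCategory.congr_hom (t.naturality f) h)).trans (M.map_smul f r _).symm)
        | add a b ha hb => exact (map_add _ a b).trans ((congrArg₂ _ ha hb).trans (map_add _ a b).symm) }
    fun U r m => by
      change (R.obj.obj U : Type u) ⊗[ℤ] (H.obj U : Type u) at m
      change L U (r • m) = r • (L U m : M.presheaf.obj U)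
      induction m using TensorProduct.induction_on with
      | zero => rw [smul_zero, map_zero, smul_zero]
      | tmul a h => exact mul_smul r a (show M.presheaf.obj U from (t.app U).hom h)
      | add a b ha hb => rw [smul_add, map_add, map_add, ha, hb, smul_add]

lemma extUnit_extDesc {M : PresheafOfModules.{u} R.obj} (t : H ⟶ M.presheaf) :
    extUnit ≫ (PresheafOfModules.toPresheaf _).map (extDesc (R := R) t) = t := by
  ext U h
  letI : Module (R.obj.obj U) (M.presheaf.obj U) := (M.obj U).isModule
  exact one_smul (R.obj.obj U) (show M.presheaf.obj U from t.app U h)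

/-- tensoring a mono with torsion free cokernel stays mono -/
theorem injective_lTensor {M A B B' : Type u} [AddCommGroup M] [AddCommGroup A] [AddCommGroup B] [AddCommGroup B']
    (t : A →+ B) (g : B →+ B') (hinj : Function.Injective t) (hex : Function.Exact t g)
    (hflat : Module.Flat ℤ B') : Function.Injective (LinearMap.lTensor M t.toIntLinearMap) := by
  let g' := g.toIntLinearMap
  haveI : Module.Flat ℤ (LinearMap.range g') := by
    rw [IsDedekindDomain.flat_iff_torsion_eq_bot, eq_bot_iff]
    rintro ⟨x, hx'⟩ hx
    obtain ⟨a, ha⟩ := (Submodule.mem_torsion_iff _).mp hx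
    refine (Submodule.mem_bot ℤ).mpr (Subtype.ext ?_)
    have : x ∈ Submodule.torsion ℤ B' :=
      (Submodule.mem_torsion_iff x).mpr ⟨a, congrArg Subtype.val ha⟩
    rw [Module.Flat.torsion_eq_bot] at this
    exact (Submodule.mem_bot ℤ).mp this
  have hex' : Function.Exact t.toIntLinearMap g'.rangeRestrict := fun x =>
    ⟨fun hx => (hex x).mp (congrArg Subtype.val hx), fun hx => Subtype.ext ((hex x).mpr hx)⟩
  exact LinearMap.lTensor_injective_of_exact_of_flat g'.rangeRestrict g'.surjective_rangeRestrict
    t.toIntLinearMap hinj hex' M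

variable [J.WEqualsLocallyBijective AddCommGrpCat.{u}] [HasSheafify J AddCommGrpCat.{u}]

theorem exists_retraction (I : SheafOfModules.{u} R) [Injective I]
    (S : ShortComplex (Sheaf J AddCommGrpCat.{u})) (hS : S.ShortExact)
    (h₁ : S.X₁ = (SheafOfModules.toSheaf R).obj I)
    (h₃ : ModSiteHom.TorsionFree S.X₃) :
    ∃ r : S.X₂ ⟶ S.X₁, S.f ≫ r = 𝟙 S.X₁ := by
  haveI := hS.mono_f
  let G : PresheafOfModules.{u} R.obj := (SheafOfModules.forget R).obj I
  let i : S.X₁.obj ⟶ G.presheaf := (eqToHom h₁).hom
  have hinj : ∀ V, Function.Injective (S.f.hom.app V) := fun V => by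
    haveI : Mono ((sheafToPresheaf J AddCommGrpCat.{u}).map S.f) := inferInstance
    exact (AddCommGrpCat.mono_iff_injective _).mp
      (inferInstanceAs (Mono (((sheafToPresheaf J AddCommGrpCat.{u}).map S.f).app V)))
  have hex : ∀ V, Function.Exact (S.f.hom.app V) (S.g.hom.app V) := fun V => by
    let Ev := sheafToPresheaf J AddCommGrpCat.{u} ⋙ (evaluation _ _).obj V
    have : (S.map Ev).Exact := ShortComplex.exact_of_f_is_kernel _
      (KernelFork.mapIsLimit _ hS.fIsKernel Ev)
    exact (ShortComplex.ab_exact_iff_function_exact (S.map Ev)).mp this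
  let b := extMap R S.f.hom
  haveI : Mono b := ⟨fun p q hpq => PresheafOfModules.hom_ext fun V => by
    ext x
    exact injective_lTensor (S.f.hom.app V).hom (S.g.hom.app V).hom (hinj V) (hex V)
      (ModCstAcyc.flat_obj h₃ V)
      (ConcreteCategory.congr_hom (congrArg (fun m => PresheafOfModules.Hom.app m V) hpq) x)⟩
  let L := PresheafOfModules.sheafification.{u} (R := R) (𝟙 R.obj)
  let adj := PresheafOfModules.sheafificationAdjunction.{u} (R := R) (𝟙 R.obj)
  haveI : Mono (L.map b) := L.map_mono b
  let c : L.obj (extPM R S.X₂.obj) ⟶ I :=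
    Injective.factorThru ((adj.homEquiv _ I).symm (extDesc i)) (L.map b)
  let a' : extPM R S.X₂.obj ⟶ G := adj.homEquiv _ I c
  have ha' : b ≫ a' = extDesc i := by
    refine (adj.homEquiv_naturality_left b c).symm.trans ?_
    rw [Injective.comp_factorThru]
    exact (adj.homEquiv _ I).apply_symm_apply _
  let r' : S.X₂.obj ⟶ G.presheaf := extUnit ≫ (PresheafOfModules.toPresheaf _).map a'
  have hr' : S.f.hom ≫ r' = i := by
    rw [← assoc, extUnit_naturality, assoc, ← Functor.map_comp, ha', extUnit_extDesc]
  refine ⟨(ObjectProperty.homMk r' : S.X₂ ⟶ (SheafOfModules.toSheaf R).obj I) ≫ eqToHom h₁.symm, ?_⟩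
  rw [← assoc, ← cancel_mono (eqToHom h₁), assoc, assoc, eqToHom_trans, eqToHom_refl, comp_id, id_comp]
  exact Sheaf.hom_ext hr'

/-- **injective sheaves of modules have no higher `Ext` out of torsion free abelian sheaves** -/
theorem subsingleton_ext [EnoughInjectives (Sheaf J AddCommGrpCat.{u})]
    [HasExt.{t} (Sheaf J AddCommGrpCat.{u})]
    (I : SheafOfModules.{u} R) [Injective I] (n : ℕ) (P : Sheaf J AddCommGrpCat.{u})
    (hP : ModSiteHom.TorsionFree P) :
    Subsingleton (Ext P ((SheafOfModules.toSheaf R).obj I) (n + 1)) :=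
  ModSiteHom.subsingleton_ext_of_retraction ModCstAcyc.exists_epi_torsionFree
    (fun S hS h₁ h₃ => exists_retraction I S hS h₁ h₃) n P hP

end Groth.Agent.GabAcyc.InjMod
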