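import Groth.Agent.GabAcyc.Split
import Groth.Agent.EtMV.GabberH
import Groth.Agent.ModPairLocal.Etale
import Groth.Agent.EtPullExact.Basic
import Groth.Agent.S0090

/-!
# Gabber: closed subschemes of normal affine schemes with separably closed function field are acyclic
-/

set_option autoImplicit false
set_option backward.isDefEq.respectTransparency false
set_option backward.isDefEq.respectTransparency.types false
set_option linter.style.haveILetI false
set_option linter.auxLemma false

universe u

open CategoryTheory CategoryTheory.Limits CategoryTheory.Abelian AlgebraicGeometry Opposite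

noncomputable section

namespace Groth.Agent.GabAcyc

attribute [local instance 100000] EtCoh.H._proof_1 EtMV.hext
attribute [local instance 200000] EtMV.hextAb

variable {Z X : Scheme.{u}} [IsAffine X] [IsIntegral X] (hN : ∀ x : X, IsIntegrallyClosed (X.presheaf.stalk x))
  [IsSepClosed X.functionField] (i : Z ⟶ X) [IsClosedImmersion i]

include hN i in
theorem locIso_closed : EtMV.LocIso Z := by
  refine EtMV.locIso_of_strictlyHenselian fun z => ?_
  have hs : Function.Surjective (i.stalkMap z).hom := i.stalkMap_surjective z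
  refine EtMV.isStrictlyHenselian_of_equiv (RingHom.quotientKerEquivOfSurjective hs)
    (ModPairLocal.strictlyHenselian_quotient (Groth.Agent.S0090.result X hN (i z)) _ ?_)
  exact RingHom.ker_ne_top _

omit [IsAffine X] in
include hN in
theorem open_normal (D : X.Opens) [Nonempty D.toScheme] :
    ∃ (_ : IsIntegral D.toScheme), (∀ x : D.toScheme, IsIntegrallyClosed (D.toScheme.presheaf.stalk x)) ∧
      IsSepClosed D.toScheme.functionField := by
  haveI : IsIntegral D.toScheme := isIntegral_of_isOpenImmersion D.ι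
  refine ⟨inferInstance, fun x => ?_, ?_⟩
  · haveI := hN (D.ι x)
    exact IsIntegrallyClosed.of_equiv (asIso (D.ι.stalkMap x)).commRingCatIsoToRingEquiv
  · let e : X.functionField ≅ D.toScheme.functionField :=
      X.presheaf.stalkCongr (.of_eq (genericPoint_eq_of_isOpenImmersion D.ι).symm) ≪≫
        asIso (D.ι.stalkMap (genericPoint D.toScheme))
    exact Hensel.isSepClosed_of_ringEquiv e.commRingCatIsoToRingEquiv

include hN i in
theorem subsingleton_H1_closed (M : Type) [AddCommGroup M] [Finite M] (G : EtCoh.Ab Z) (e : EtCoh.const Z M ≅ G) :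
    Subsingleton (EtCoh.H Z G 1) :=
  subsingleton_H1_of_sections (fun φ => exists_section hN i φ) M G e

include hN i in
theorem H1_basicOpen (M : Type) [AddCommGroup M] [Finite M] (c : Γ(X, ⊤))
    [PreservesFiniteLimits (EtCoh.pull (i ⁻¹ᵁ X.basicOpen c).ι)]
    (hne : Nonempty (i ⁻¹ᵁ X.basicOpen c).toScheme) :
    Subsingleton (EtCoh.H (i ⁻¹ᵁ X.basicOpen c).toScheme
      ((EtCoh.pull (i ⁻¹ᵁ X.basicOpen c).ι).obj (EtCoh.const Z M)) 1) := by
  let D := X.basicOpen c
  haveI : IsAffine D.toScheme := (isAffineOpen_top X).basicOpen c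
  haveI : Nonempty D.toScheme := hne.map (i ∣_ D)
  obtain ⟨_, hN', hs⟩ := open_normal hN D
  haveI : IsClosedImmersion (i ∣_ D) := IsZariskiLocalAtTarget.restrict (P := @IsClosedImmersion) inferInstance D
  exact subsingleton_H1_closed hN' (i ∣_ D) M _ (EtCore.pullConst (i ⁻¹ᵁ D).ι M).symm

include hN i in
theorem subsingleton_H (M : Type) [AddCommGroup M] [Finite M] (q : ℕ) (hq : 1 ≤ q) :
    Subsingleton (EtCoh.H Z (EtCoh.const Z M) q) := by
  obtain ⟨n, rfl⟩ : ∃ n, q = n + 1 := ⟨q - 1, by omega⟩
  obtain ⟨hZ, hsur⟩ := IsClosedImmersion.isAffine_surjective_of_isAffine i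
  haveI := hZ
  refine EtMV.subsingleton_H_of_vanish _ (n + 1) fun U hU => ?_
  subst hU
  rw [← Scheme.basicOpen_of_isUnit Z (isUnit_one (M := Γ(Z, ⊤)))]
  refine EtMV.gabber_vanish (locIso_closed hN i) (isAffineOpen_top Z) (fun a b _ _ x _ _ => ?_) n 1
  obtain ⟨c, hc⟩ := hsur (a + b)
  have he : i ⁻¹ᵁ X.basicOpen c = Z.basicOpen (a + b) := by rw [← hc]; exact Scheme.preimage_basicOpen_top i c
  have key : ∀ (U : Z.Opens), U = i ⁻¹ᵁ X.basicOpen c →
      ∀ x : Ext ((EtMV.P Z).obj (EtMV.oo U)) (EtCoh.const Z M) 1, x = 0 := by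
    rintro _ rfl x
    haveI := EtPullExact.pull_preservesFiniteLimits (i ⁻¹ᵁ X.basicOpen c).ι
    by_cases hne : Nonempty (i ⁻¹ᵁ X.basicOpen c).toScheme
    · haveI := H1_basicOpen hN i M c hne
      exact (EtMV.Φ (i ⁻¹ᵁ X.basicOpen c) (EtCoh.const Z M) 1).injective (Subsingleton.elim _ _)
    · exact EtMV.eq_zero_of_empty (le_bot_iff.1 fun p hp => (hne ⟨⟨p, hp⟩⟩).elim) x
  exact key _ he.symm x

end Groth.Agent.GabAcyc
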