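import Groth.Agent.EtClosedSplit.Basic
import Groth.Agent.EtH1PBC.Classes
import Groth.Agent.EtH1PBC.Torsor

/-!
# Finite étale covers of closed subschemes of normal schemes with separably closed function field are split
-/

set_option autoImplicit false
set_option backward.isDefEq.respectTransparency false
set_option backward.isDefEq.respectTransparency.types false
set_option linter.style.haveILetI false

universe u

open CategoryTheory CategoryTheory.Limits CategoryTheory.Abelian AlgebraicGeometry Opposite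

noncomputable section

namespace Groth.Agent.GabAcyc

/-- an injective morphism which is locally on the source an open immersion is an open immersion -/
theorem isOpenImmersion_of_injective {X Y : Scheme.{u}} (f : X ⟶ Y) (hinj : Function.Injective f)
    (hloc : ∀ x, ∃ U : X.Opens, x ∈ U ∧ IsOpenImmersion (U.ι ≫ f)) : IsOpenImmersion f := by
  have hopen : IsOpenMap f := fun S hS => isOpen_iff_forall_mem_open.2 (by
    rintro _ ⟨x, hx, rfl⟩
    obtain ⟨U, hxU, hU⟩ := hloc x
    refine ⟨(U.ι ≫ f) '' (U.ι ⁻¹' S), ?_, (U.ι ≫ f).isOpenEmbedding.isOpenMap _ (hS.preimage U.ι.continuous),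
      ⟨x, hxU⟩, hx, rfl⟩
    rintro _ ⟨z, hz, rfl⟩
    exact ⟨z.1, hz, rfl⟩)
  refine IsOpenImmersion.iff_isIso_stalkMap.mpr
    ⟨.of_continuous_injective_isOpenMap f.continuous hinj hopen, fun x => ?_⟩
  obtain ⟨U, hx, hU⟩ := hloc x
  let z : U.toScheme := ⟨x, hx⟩
  have h := Scheme.Hom.stalkMap_comp U.ι f z
  have h1 : IsIso ((U.ι ≫ f).stalkMap z) := inferInstance
  have h2 : IsIso (U.ι.stalkMap z) := inferInstance
  have : IsIso (f.stalkMap (U.ι z) ≫ U.ι.stalkMap z) := h ▸ inferInstance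
  exact @IsIso.of_isIso_comp_right _ _ _ _ _ (f.stalkMap x) (U.ι.stalkMap z) h2 this

/-- Finite étale surjections onto closed subschemes of normal affine schemes with separably closed
function field have sections. -/
theorem exists_section {V Z X : Scheme.{u}} [IsAffine X] [IsIntegral X]
    (hN : ∀ x : X, IsIntegrallyClosed (X.presheaf.stalk x)) [IsSepClosed X.functionField]
    (i : Z ⟶ X) [IsClosedImmersion i] (φ : V ⟶ Z) [Etale φ] [IsFinite φ] [Surjective φ] :
    ∃ s : Z ⟶ V, s ≫ φ = 𝟙 Z := by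
  classical
  haveI : IsAffine Z := isAffine_of_isAffineHom i
  haveI : IsAffine V := isAffine_of_isAffineHom φ
  obtain ⟨ι, hι, P, hcov, hdis, hP⟩ := EtClosedSplit.exists_pieces hN i φ
  letI := Fintype.ofFinite ι
  let e := Fintype.equivFin ι
  have hclosed : ∀ k, IsClosed (P k : Set V) := fun k => by
    have : (P k : Set V)ᶜ = ⋃ l ∈ {l | l ≠ k}, (P l : Set V) := by
      ext v
      simp only [Set.mem_compl_iff, SetLike.mem_coe, Set.mem_iUnion, Set.mem_setOf_eq]
      refine ⟨fun h => ?_, fun ⟨l, hl, hv⟩ h => ?_⟩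
      · obtain ⟨l, hl⟩ := hcov v
        exact ⟨l, fun e => h (e ▸ hl), hl⟩
      · exact ((hdis hl).le_bot ⟨hv, h⟩)
    rw [← isOpen_compl_iff, this]
    exact isOpen_biUnion fun l _ => (P l).isOpen
  let R : ι → Set Z := fun k => φ '' (P k : Set V)
  have hR : ∀ k, IsClopen (R k) := fun k =>
    ⟨φ.isClosedMap _ (hclosed k), φ.isOpenMap _ (P k).isOpen⟩
  let D : ι → Set Z := fun k => R k \ ⋃ l ∈ {l | e l < e k}, R l
  have hD : ∀ k, IsOpen (D k) := fun k => (hR k).isOpen.sdiff
    ((Set.toFinite _).isClosed_biUnion fun l _ => (hR l).isClosed)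
  have hDdis : ∀ k l z, z ∈ D k → z ∈ D l → k = l := by
    intro k l z hk hl
    rcases lt_trichotomy (e k) (e l) with h | h | h
    · exact absurd (Set.mem_biUnion (show k ∈ {m | e m < e l} from h) hk.1) hl.2
    · exact e.injective h
    · exact absurd (Set.mem_biUnion (show l ∈ {m | e m < e k} from h) hl.1) hk.2
  let O : V.Opens := ⨆ k, P k ⊓ ⟨φ ⁻¹' D k, (hD k).preimage φ.continuous⟩
  let ψ := O.ι ≫ φ
  have hmem : ∀ v : (O : Scheme.{u}), ∃ k, v.1 ∈ P k ∧ φ v.1 ∈ D k := fun v => by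
    obtain ⟨k, hk, hk'⟩ := TopologicalSpace.Opens.mem_iSup.1 v.2
    exact ⟨k, hk, hk'⟩
  haveI : IsOpenImmersion ψ := by
    refine isOpenImmersion_of_injective ψ (fun v w hvw => ?_) fun v => ?_
    · obtain ⟨k, hk, hk'⟩ := hmem v
      obtain ⟨l, hl, hl'⟩ := hmem w
      have he : φ v.1 = φ w.1 := hvw
      obtain rfl := hDdis k l _ hk' (he ▸ hl')
      haveI := hP k
      refine Subtype.ext ?_
      have h2 : (⟨v.1, hk⟩ : (P k).toScheme) = ⟨w.1, hl⟩ :=
        ((P k).ι ≫ φ).isEmbedding.injective he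
      exact congrArg (fun x : (P k).toScheme => x.1) h2
    · obtain ⟨k, hk, -⟩ := hmem v
      haveI := hP k
      refine ⟨O.ι ⁻¹ᵁ P k, hk, ?_⟩
      rw [← Category.assoc, ← morphismRestrict_ι, Category.assoc]
      infer_instance
  haveI : Surjective ψ := ⟨fun z => by
    have hne : (Finset.univ.filter fun k => z ∈ R k).Nonempty := by
      obtain ⟨v, rfl⟩ := φ.surjective z
      obtain ⟨k, hk⟩ := hcov v
      exact ⟨k, Finset.mem_filter.2 ⟨Finset.mem_univ _, v, hk, rfl⟩⟩
    obtain ⟨k, hk, hmin⟩ := Finset.exists_min_image _ e hne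
    obtain ⟨v, hv, hvz⟩ := (Finset.mem_filter.1 hk).2
    have hzD : z ∈ D k := ⟨⟨v, hv, hvz⟩, fun h => by
      obtain ⟨l, hl, hzl⟩ := Set.mem_iUnion₂.1 h
      exact not_le.2 (show e l < e k from hl) (hmin l (Finset.mem_filter.2 ⟨Finset.mem_univ _, hzl⟩))⟩
    exact ⟨⟨v, TopologicalSpace.Opens.mem_iSup.2 ⟨k, hv, show φ v ∈ D k from hvz ▸ hzD⟩⟩, hvz⟩⟩
  haveI : IsIso ψ := (isIso_iff_isOpenImmersion_and_epi_base ψ).2
    ⟨inferInstance, (TopCat.epi_iff_surjective _).2 ψ.surjective⟩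
  exact ⟨inv ψ ≫ O.ι, by rw [Category.assoc]; exact IsIso.inv_hom_id ψ⟩

open Groth.Agent.EtFLC (res res_res res_id app_res)
open Groth.Agent.EtMV (κ injSeq injSeq_shortExact)
open Groth.Agent.EtH0Pair (toTopX hom_top_eq)

set_option linter.auxLemma false
attribute [local instance 100000] EtCoh.H._proof_1 EtMV.hext
attribute [local instance 200000] EtMV.hextAb

/-- If finite étale surjections have sections, finite constant sheaves have no first cohomology. -/
theorem subsingleton_H1_of_sections {Z : Scheme.{u}}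
    (hsec : ∀ {V : Scheme.{u}} (φ : V ⟶ Z) [Etale φ] [IsFinite φ] [Surjective φ], ∃ s : Z ⟶ V, s ≫ φ = 𝟙 Z)
    (M : Type) [AddCommGroup M] [Finite M] (G : EtCoh.Ab Z) (e : EtCoh.const Z M ≅ G) :
    Subsingleton (EtCoh.H Z G 1) := by
  refine subsingleton_of_forall_eq 0 fun ξ => ?_
  obtain ⟨ψ, rfl⟩ := EtH1PBC.exists_cls G ξ
  obtain ⟨E, t, hE, hEs, ht⟩ := EtH1PBC.exists_finite_lift (injSeq_shortExact G) e (κ ψ)
  obtain ⟨s, hs⟩ := hsec E.hom
  let σ : EtCoh.top Z ⟶ E := MorphismProperty.Over.homMk s hs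
  refine (EtH1PBC.cls_eq_zero_iff_κ _ ψ).2 ⟨res (injSeq G).X₂ σ t, ?_⟩
  change ((injSeq G).g.hom.app (op (EtCoh.top Z))).hom (res (injSeq G).X₂ σ t) = κ ψ
  rw [app_res, ht, res_res, hom_top_eq (σ ≫ toTopX E) (𝟙 _), res_id]

end Groth.Agent.GabAcyc
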